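/-
helper46: project S4504 (helper79), module [B-UNI]: an indecomposable module of a group `N = U ⋊ H`
(`U` normal of prime order `p` generated by `x`, `N / U` abelian of order prime to `p`) over an algebraically closed
field of characteristic `p` is uniserial: the fixed space of `x` is a line.
-/
import Mathlib
import Cfsg.Agent.Lib.Helper79.ModP.Defs

set_option autoImplicit false

open Cfsg.Agent.Lib.Helper79.ModP

namespace Cfsg.Agent.Lib.Helper46.S4504

section LinAlg

variable {F V : Type*} [Field F] [AddCommGroup V] [Module F V]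

/-- A commuting family of endomorphisms of finite order prime to the characteristic has a joint eigenvector outside any
proper subspace. -/
theorem exists_joint_eigenvector_not_mem {ι : Type*} [IsAlgClosed F] [FiniteDimensional F V]
    (f : ι → Module.End F V) (hcomm : ∀ i j, Commute (f i) (f j))
    (m : ℕ) (hm : (m : F) ≠ 0) (hpow : ∀ i, f i ^ m = 1)
    (Z : Submodule F V) (hZ : Z ≠ ⊤) :
    ∃ (χ : ι → F) (v : V), v ∉ Z ∧ ∀ i, f i v = χ i • v := by
  have hss : ∀ i, (f i).IsSemisimple := by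
    intro i
    have hsq : Squarefree (Polynomial.X ^ m - Polynomial.C (1 : F)) :=
      (Polynomial.separable_X_pow_sub_C (1 : F) hm one_ne_zero).squarefree
    apply Module.End.isSemisimple_of_squarefree_aeval_eq_zero hsq
    simp [hpow i]
  have h1 : ⨆ χ : ι → F, ⨅ i, (f i).maxGenEigenspace (χ i) = ⊤ :=
    Module.End.iSup_iInf_maxGenEigenspace_eq_top_of_iSup_maxGenEigenspace_eq_top_of_commute f
      (fun i j _ => hcomm i j) (fun i => Module.End.iSup_maxGenEigenspace_eq_top (f i))
  have h2 : ⨆ χ : ι → F, ⨅ i, (f i).eigenspace (χ i) = ⊤ := by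
    rw [← h1]
    congr 1
    funext χ
    congr 1
    funext i
    exact ((hss i).isFinitelySemisimple.maxGenEigenspace_eq_eigenspace (χ i)).symm
  by_contra hcon
  push Not at hcon
  apply hZ
  rw [eq_top_iff, ← h2]
  apply iSup_le
  intro χ v hv
  by_contra hvZ
  obtain ⟨i, hi⟩ := hcon χ v hvZ
  apply hi
  have := (Submodule.mem_iInf _).mp hv i
  exact Module.End.mem_eigenspace_iff.mp this

theorem dualMap_pow' (f : Module.End F V) (n : ℕ) :
    (f ^ n).dualMap = (f.dualMap : Module.End F (Module.Dual F V)) ^ n := by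
  induction n with
  | zero =>
    ext φ w
    simp [Module.End.one_apply]
  | succ n ih =>
    rw [pow_succ, pow_succ', ← ih]
    ext φ w
    simp [LinearMap.dualMap_apply, Module.End.mul_apply]

theorem dualMap_commute (f g : Module.End F V) (h : Commute f g) :
    Commute (f.dualMap : Module.End F (Module.Dual F V)) g.dualMap := by
  show (f.dualMap : Module.End F (Module.Dual F V)) * g.dualMap = g.dualMap * f.dualMap
  ext φ w
  simp only [Module.End.mul_apply, LinearMap.dualMap_apply]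
  have : g (f w) = f (g w) := by
    have := congrArg (fun T : Module.End F V => T w) h.eq
    simpa [Module.End.mul_apply] using this.symm
  rw [this]

/-- stability under an operator passes to its powers -/
theorem stab_pow (S : Submodule F V) (T : Module.End F V) (hT : ∀ w ∈ S, T w ∈ S) (k : ℕ) :
    ∀ w ∈ S, (T ^ k) w ∈ S := by
  induction k with
  | zero => intro w hw; simpa using hw
  | succ k ih =>
    intro w hw
    rw [pow_succ, Module.End.mul_apply]
    exact ih _ (hT w hw)

/-- stability under an operator passes to geometric sums -/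
theorem stab_geom (S : Submodule F V) (T : Module.End F V) (hT : ∀ w ∈ S, T w ∈ S) (a : ℕ) :
    ∀ w ∈ S, (∑ i ∈ Finset.range a, T ^ i) w ∈ S := by
  intro w hw
  rw [LinearMap.sum_apply]
  exact Submodule.sum_mem _ (fun i _ => stab_pow S T hT i w hw)

end LinAlg

section Rel

variable {F N V : Type*} [Field F] [Group N] [AddCommGroup V] [Module F V]

/-- the conjugation relation `n x n⁻¹ = x ^ a` at the operator level -/
theorem conj_rel (ρ : Representation F N V) (x n : N) (a : ℕ) (h : n * x * n⁻¹ = x ^ a) (k : ℕ) :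
    ρ n * (ρ x - 1) ^ k =
      ((ρ x - 1) ^ k * (∑ i ∈ Finset.range a, ρ x ^ i) ^ k) * ρ n := by
  have h1 : ρ n * ρ x = ρ x ^ a * ρ n := by
    rw [← map_pow, ← map_mul, ← map_mul, ← h]
    congr 1
    group
  have h2 : ρ n * (ρ x - 1) = ((ρ x - 1) * ∑ i ∈ Finset.range a, ρ x ^ i) * ρ n := by
    rw [mul_sub, mul_one, h1, mul_geom_sum, sub_mul, one_mul]
  have hc : Commute (ρ x - 1) (∑ i ∈ Finset.range a, ρ x ^ i) := by
    apply Commute.sum_right
    intro i _
    exact ((Commute.refl (ρ x)).pow_right i).sub_left (Commute.one_left _)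
  have h3 : SemiconjBy (ρ n) (ρ x - 1) ((ρ x - 1) * ∑ i ∈ Finset.range a, ρ x ^ i) := h2
  have h4 := h3.pow_right k
  rw [hc.mul_pow] at h4
  exact h4

end Rel

/-- S4504-[B-UNI]: indecomposable `F[U ⋊ H]`-modules are uniserial. -/
theorem uniserial_of_indec {F N V : Type*} [Field F] [IsAlgClosed F] [Group N] [Finite N]
    [AddCommGroup V] [Module F V] [FiniteDimensional F V] {p : ℕ} [Fact p.Prime] [CharP F p]
    (U : Subgroup N) [U.Normal] (hU : Nat.card U = p) (x : N) (hx : x ∈ U) (hx1 : x ≠ 1)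
    (hab : ∀ a b : N, a * b * a⁻¹ * b⁻¹ ∈ U) (hcop : ¬ p ∣ U.index)
    (ρ : Representation F N V) (hind : Indec ρ) :
    Module.finrank F ↥(LinearMap.ker (ρ x - 1)) = 1 := by
  classical
  have hp : p.Prime := Fact.out
  have : Nontrivial V := hind.1
  -- `U` is generated by `x`
  have hox : orderOf x = p := by
    have h1 : orderOf x ∣ p := by
      have := orderOf_dvd_natCard (⟨x, hx⟩ : U)
      rw [hU] at this
      rwa [Subgroup.orderOf_mk] at this
    rcases (Nat.dvd_prime hp).mp h1 with h | h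
    · exact absurd (orderOf_eq_one_iff.mp h) hx1
    · exact h
  have hUz : Subgroup.zpowers x = U := by
    apply Subgroup.eq_of_le_of_card_ge (Subgroup.zpowers_le.mpr hx)
    rw [Nat.card_zpowers, hox, hU]
  have hpowU : ∀ u ∈ U, ∃ j : ℕ, u = x ^ j := by
    intro u hu
    rw [← hUz] at hu
    have hfin : IsOfFinOrder x := isOfFinOrder_of_finite x
    obtain ⟨j, hj⟩ := hfin.mem_powers_iff_mem_zpowers.mpr hu
    exact ⟨j, hj.symm⟩
  have hconj : ∀ n : N, ∃ a : ℕ, n * x * n⁻¹ = x ^ a := by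
    intro n
    exact hpowU _ (Subgroup.Normal.conj_mem inferInstance x hx n)
  -- the nilpotent operator
  set ν : Module.End F V := ρ x - 1 with hν
  have hρx : ρ x = 1 + ν := by rw [hν]; abel
  have hνp : ν ^ p = 0 := by
    have h1 : (ρ x) ^ p = 1 := by rw [← map_pow, ← hox, pow_orderOf_eq_one, map_one]
    have h2 : ((Polynomial.X - 1 : Polynomial F)) ^ p = Polynomial.X ^ p - 1 := by
      rw [sub_pow_char, one_pow]
    have h3 := congrArg (Polynomial.aeval (ρ x)) h2
    simpa [h1] using h3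
  have hex : ∃ k, ν ^ k = 0 := ⟨p, hνp⟩
  set ℓ := Nat.find hex with hℓ
  have hℓ0 : ν ^ ℓ = 0 := Nat.find_spec hex
  have hone : (1 : Module.End F V) ≠ 0 := by
    intro h
    obtain ⟨w, hw⟩ := exists_ne (0 : V)
    apply hw
    have := congrArg (fun T : Module.End F V => T w) h
    simpa using this
  have hℓpos : 0 < ℓ := by
    rcases Nat.eq_zero_or_pos ℓ with h | h
    · exfalso
      rw [h, pow_zero] at hℓ0
      exact hone hℓ0
    · exact h
  have hℓ1 : ν ^ (ℓ - 1) ≠ 0 := Nat.find_min hex (by omega)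
  have hνbig : ∀ k, ℓ ≤ k → ν ^ k = 0 := by
    intro k hk
    obtain ⟨d, rfl⟩ := Nat.exists_eq_add_of_le hk
    rw [pow_add, hℓ0, zero_mul]
  -- Schur–Zassenhaus complement
  have hcopr : Nat.Coprime (Nat.card U) U.index := by
    rw [hU]
    exact (Nat.Prime.coprime_iff_not_dvd hp).mpr hcop
  obtain ⟨H, hH⟩ := Subgroup.exists_right_complement'_of_coprime hcopr
  have hHcard : Nat.card H = U.index := (hH.symm.index_eq_card).symm
  have hmF : ((Nat.card H : ℕ) : F) ≠ 0 := by
    rw [Ne, CharP.cast_eq_zero_iff F p, hHcard]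
    exact hcop
  have hHab : ∀ a b : H, (a : N) * b = b * a := by
    intro a b
    have h1 : (a : N) * b * (a : N)⁻¹ * (b : N)⁻¹ ∈ U ⊓ H :=
      ⟨hab a b, H.mul_mem (H.mul_mem (H.mul_mem a.2 b.2) (H.inv_mem a.2)) (H.inv_mem b.2)⟩
    rw [hH.disjoint.eq_bot, Subgroup.mem_bot] at h1
    have h2 := congrArg (fun z => z * (b : N) * (a : N)) h1
    simpa [mul_assoc] using h2
  have hNUH : ∀ n : N, ∃ u ∈ U, ∃ h ∈ H, n = u * h := by
    intro n
    obtain ⟨⟨u, h⟩, huh, -⟩ := (Subgroup.isComplement'_def.mp hH).existsUnique n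
    exact ⟨u.1, u.2, h.1, h.2, huh.symm⟩
  -- the two commuting families
  have hfcomm : ∀ a b : H, Commute (ρ (a : N)) (ρ (b : N)) := by
    intro a b
    show ρ (a : N) * ρ (b : N) = ρ (b : N) * ρ (a : N)
    rw [← map_mul, ← map_mul, hHab a b]
  have hfpow : ∀ a : H, ρ (a : N) ^ Nat.card H = 1 := by
    intro a
    rw [← map_pow]
    have : (a : N) ^ Nat.card H = 1 := by
      have := pow_card_eq_one' (G := H) (x := a)
      exact_mod_cast congrArg (fun z : H => (z : N)) this
    rw [this, map_one]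
  -- a semi-invariant functional not killing `ν ^ (ℓ - 1)`
  have hZ : LinearMap.ker ((ν ^ (ℓ - 1)).dualMap) ≠ ⊤ := by
    intro htop
    apply hℓ1
    apply LinearMap.ext
    intro w
    rw [LinearMap.zero_apply, ← Module.forall_dual_apply_eq_zero_iff F]
    intro φ₀
    have : φ₀ ∈ LinearMap.ker ((ν ^ (ℓ - 1)).dualMap) := by rw [htop]; exact Submodule.mem_top
    have h2 := congrArg (fun ψ : Module.Dual F V => ψ w) (LinearMap.mem_ker.mp this)
    simpa [LinearMap.dualMap_apply] using h2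
  obtain ⟨μ, φ, hφZ, hφ⟩ := exists_joint_eigenvector_not_mem
    (fun a : H => ((ρ (a : N)).dualMap : Module.End F (Module.Dual F V)))
    (fun a b => dualMap_commute _ _ (hfcomm a b)) (Nat.card H) hmF
    (fun a => by rw [← dualMap_pow', hfpow a]; ext ψ w; simp [Module.End.one_apply])
    _ hZ
  have hφne : φ ∘ₗ (ν ^ (ℓ - 1)) ≠ 0 := by
    intro h
    apply hφZ
    rw [LinearMap.mem_ker]
    ext w
    have := congrArg (fun ψ : V →ₗ[F] F => ψ w) h
    simpa [LinearMap.dualMap_apply] using this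
  have hφact : ∀ (a : H) (w : V), φ (ρ (a : N) w) = μ a * φ w := by
    intro a w
    have := congrArg (fun ψ : Module.Dual F V => ψ w) (hφ a)
    simpa [LinearMap.dualMap_apply] using this
  -- an eigenvector not killed by `φ ∘ ν ^ (ℓ - 1)`
  have hZ' : LinearMap.ker (φ ∘ₗ (ν ^ (ℓ - 1))) ≠ ⊤ := by
    intro htop
    exact hφne (LinearMap.ker_eq_top.mp htop)
  obtain ⟨lam, v, hvZ, hv⟩ := exists_joint_eigenvector_not_mem
    (fun a : H => ρ (a : N)) hfcomm (Nat.card H) hmF hfpow _ hZ'
  have hc0 : φ ((ν ^ (ℓ - 1)) v) ≠ 0 := by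
    intro h
    apply hvZ
    rw [LinearMap.mem_ker]
    simpa using h
  -- the two subspaces
  let X' : Submodule F V := ⨅ k : ℕ, LinearMap.ker (φ ∘ₗ (ν ^ k))
  let Y : Submodule F V := Submodule.span F (Set.range fun i : Fin ℓ => (ν ^ (i : ℕ)) v)
  have hX'mem : ∀ w, w ∈ X' ↔ ∀ k : ℕ, φ ((ν ^ k) w) = 0 := by
    intro w
    simp only [X', Submodule.mem_iInf, LinearMap.mem_ker, LinearMap.comp_apply]
  have hYgen : ∀ i : ℕ, (ν ^ i) v ∈ Y := by
    intro i
    by_cases hi : i < ℓ
    · exact Submodule.subset_span ⟨⟨i, hi⟩, rfl⟩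
    · rw [hνbig i (by omega), LinearMap.zero_apply]
      exact Submodule.zero_mem _
  -- stability under `ρ x`
  have hX'x : ∀ w ∈ X', ρ x w ∈ X' := by
    intro w hw
    rw [hX'mem] at hw ⊢
    intro k
    have h1 : (ν ^ k) (ρ x w) = (ν ^ k) w + (ν ^ (k + 1)) w := by
      rw [hρx, LinearMap.add_apply, Module.End.one_apply, map_add, pow_succ, Module.End.mul_apply]
    rw [h1, map_add, hw k, hw (k + 1), add_zero]
  have hYx : ∀ w ∈ Y, ρ x w ∈ Y := by
    intro w hw
    have : Y.map (ρ x) ≤ Y := by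
      rw [Submodule.map_span_le]
      rintro _ ⟨i, rfl⟩
      have h1 : ρ x ((ν ^ (i : ℕ)) v) = (ν ^ (i : ℕ)) v + (ν ^ ((i : ℕ) + 1)) v := by
        rw [hρx, LinearMap.add_apply, Module.End.one_apply, pow_succ', Module.End.mul_apply]
      rw [h1]
      exact Submodule.add_mem _ (hYgen _) (hYgen _)
    exact this (Submodule.mem_map_of_mem hw)
  have hYν : ∀ w ∈ Y, ν w ∈ Y := by
    intro w hw
    rw [hν, LinearMap.sub_apply, Module.End.one_apply]
    exact Submodule.sub_mem _ (hYx w hw) hw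
  -- stability under `H`
  have hX'H : ∀ a : H, ∀ w ∈ X', ρ (a : N) w ∈ X' := by
    intro a w hw
    obtain ⟨a', ha'⟩ := hconj ((a : N)⁻¹)
    rw [hX'mem]
    intro k
    have hrel := conj_rel ρ x ((a : N)⁻¹) a' ha' k
    -- ν^k ρ a = ρ a ν^k g^k
    have h1 : ν ^ k * ρ (a : N) =
        ρ (a : N) * (ν ^ k * (∑ i ∈ Finset.range a', ρ x ^ i) ^ k) := by
      have h2 : ρ (a : N) * ρ ((a : N)⁻¹) = 1 := by rw [← map_mul, mul_inv_cancel, map_one]
      have h3 : ρ ((a : N)⁻¹) * ρ (a : N) = 1 := by rw [← map_mul, inv_mul_cancel, map_one]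
      calc ν ^ k * ρ (a : N) = (ρ (a : N) * ρ ((a : N)⁻¹)) * ν ^ k * ρ (a : N) := by
            rw [h2, one_mul]
        _ = ρ (a : N) * (ρ ((a : N)⁻¹) * ν ^ k) * ρ (a : N) := by simp only [mul_assoc]
        _ = ρ (a : N) * ((ν ^ k * (∑ i ∈ Finset.range a', ρ x ^ i) ^ k) * ρ ((a : N)⁻¹)) *
              ρ (a : N) := by rw [hrel]
        _ = ρ (a : N) * (ν ^ k * (∑ i ∈ Finset.range a', ρ x ^ i) ^ k) *
              (ρ ((a : N)⁻¹) * ρ (a : N)) := by simp only [mul_assoc]
        _ = _ := by rw [h3, mul_one]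
    have h4 : (ν ^ k) (ρ (a : N) w) =
        ρ (a : N) ((ν ^ k) (((∑ i ∈ Finset.range a', ρ x ^ i) ^ k) w)) := by
      have := congrArg (fun T : Module.End F V => T w) h1
      simpa [Module.End.mul_apply] using this
    rw [h4, hφact]
    have h5 : ((∑ i ∈ Finset.range a', ρ x ^ i) ^ k) w ∈ X' :=
      stab_pow X' _ (stab_geom X' (ρ x) hX'x a') k w hw
    rw [(hX'mem _).mp h5 k, mul_zero]
  have hYH : ∀ a : H, ∀ w ∈ Y, ρ (a : N) w ∈ Y := by
    intro a w hw
    obtain ⟨a', ha'⟩ := hconj (a : N)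
    have : Y.map (ρ (a : N)) ≤ Y := by
      rw [Submodule.map_span_le]
      rintro _ ⟨i, rfl⟩
      have hrel := conj_rel ρ x (a : N) a' ha' (i : ℕ)
      have h1 : ρ (a : N) ((ν ^ (i : ℕ)) v) =
          (ν ^ (i : ℕ)) (((∑ j ∈ Finset.range a', ρ x ^ j) ^ (i : ℕ)) (ρ (a : N) v)) := by
        have := congrArg (fun T : Module.End F V => T v) hrel
        simpa [Module.End.mul_apply] using this
      rw [h1, hv a, map_smul, map_smul]
      apply Submodule.smul_mem
      apply stab_pow Y ν hYν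
      apply stab_pow Y _ (stab_geom Y (ρ x) hYx a')
      have := hYgen 0
      simpa using this
    exact this (Submodule.mem_map_of_mem hw)
  -- stability under `N`
  have hstab : ∀ S : Submodule F V, (∀ w ∈ S, ρ x w ∈ S) → (∀ a : H, ∀ w ∈ S, ρ (a : N) w ∈ S) →
      Stable ρ S := by
    intro S hSx hSH n w hw
    obtain ⟨u, hu, h, hh, rfl⟩ := hNUH n
    obtain ⟨j, rfl⟩ := hpowU u hu
    rw [map_mul, Module.End.mul_apply, map_pow]
    exact stab_pow S (ρ x) hSx j _ (hSH ⟨h, hh⟩ w hw)
  have hX'stab : Stable ρ X' := hstab X' hX'x hX'H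
  have hYstab : Stable ρ Y := hstab Y hYx hYH
  -- the triangular system
  have hT : ∀ c : Fin ℓ → F,
      (∀ k : Fin ℓ, ∑ i : Fin ℓ, c i * φ ((ν ^ ((k : ℕ) + (i : ℕ))) v) = 0) →
      ∀ j : ℕ, ∀ hj : j < ℓ, c ⟨j, hj⟩ = 0 := by
    intro c hc j
    induction j using Nat.strong_induction_on with
    | _ j ih =>
      intro hj
      have h1 := hc ⟨ℓ - 1 - j, by omega⟩
      rw [Finset.sum_eq_single (⟨j, hj⟩ : Fin ℓ)] at h1
      · have h2 : ℓ - 1 - j + j = ℓ - 1 := by omega
        simp only [h2] at h1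
        exact (mul_eq_zero.mp h1).resolve_right hc0
      · intro i _ hij
        rcases lt_or_gt_of_ne (Fin.val_ne_of_ne hij) with h | h
        · have := ih (i : ℕ) h i.2
          rw [Fin.eta] at this
          rw [this, zero_mul]
        · have hji : j < (i : ℕ) := h
          have h3 : ν ^ (ℓ - 1 - j + (i : ℕ)) = 0 := hνbig _ (by omega)
          simp only [h3, LinearMap.zero_apply, map_zero, mul_zero]
      · intro h
        exact absurd (Finset.mem_univ _) h
  -- the two maps
  let Ψ : (Fin ℓ → F) →ₗ[F] V := Fintype.linearCombination F (fun i : Fin ℓ => (ν ^ (i : ℕ)) v)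
  let Φ : V →ₗ[F] (Fin ℓ → F) := LinearMap.pi (fun k : Fin ℓ => φ ∘ₗ (ν ^ (k : ℕ)))
  have hΨ : ∀ c, Ψ c = ∑ i : Fin ℓ, c i • (ν ^ (i : ℕ)) v := by
    intro c
    simp only [Ψ, Fintype.linearCombination_apply]
  have hΦΨ : ∀ (c : Fin ℓ → F) (k : Fin ℓ),
      Φ (Ψ c) k = ∑ i : Fin ℓ, c i * φ ((ν ^ ((k : ℕ) + (i : ℕ))) v) := by
    intro c k
    simp only [Φ, LinearMap.pi_apply, LinearMap.comp_apply, hΨ, map_sum, map_smul, smul_eq_mul]
    apply Finset.sum_congr rfl
    intro i _
    rw [pow_add, Module.End.mul_apply]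
  have hinj : Function.Injective (Φ ∘ₗ Ψ) := by
    rw [← LinearMap.ker_eq_bot, LinearMap.ker_eq_bot']
    intro c hc
    funext j
    have := hT c (fun k => by rw [← hΦΨ]; exact congrFun hc k) j j.2
    rwa [Fin.eta] at this
  have hsurj : Function.Surjective (Φ ∘ₗ Ψ) := LinearMap.injective_iff_surjective.mp hinj
  have hΨY : ∀ c, Ψ c ∈ Y := by
    intro c
    rw [hΨ]
    exact Submodule.sum_mem _ (fun i _ => Submodule.smul_mem _ _ (hYgen _))
  have hΦX' : ∀ w, Φ w = 0 → w ∈ X' := by
    intro w hw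
    rw [hX'mem]
    intro k
    by_cases hk : k < ℓ
    · have := congrFun hw ⟨k, hk⟩
      simpa [Φ] using this
    · rw [hνbig k (by omega), LinearMap.zero_apply, map_zero]
  have hX'Φ : ∀ w ∈ X', Φ w = 0 := by
    intro w hw
    funext k
    simpa [Φ] using (hX'mem w).mp hw (k : ℕ)
  have hcompl : IsCompl Y X' := by
    constructor
    · rw [Submodule.disjoint_def]
      intro w hwY hwX
      obtain ⟨c, rfl⟩ := (Submodule.mem_span_range_iff_exists_fun F).mp hwY
      rw [← hΨ] at hwX ⊢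
      have h1 : (Φ ∘ₗ Ψ) c = (Φ ∘ₗ Ψ) 0 := by
        rw [LinearMap.comp_apply, hX'Φ _ hwX, map_zero]
      rw [hinj h1, map_zero]
    · rw [codisjoint_iff, eq_top_iff]
      intro w _
      obtain ⟨c, hc⟩ := hsurj (Φ w)
      rw [LinearMap.comp_apply] at hc
      have h1 : w - Ψ c ∈ X' := by
        apply hΦX'
        rw [map_sub, hc, sub_self]
      have h2 : w = Ψ c + (w - Ψ c) := by abel
      rw [h2]
      exact Submodule.add_mem_sup (hΨY c) h1
  -- indecomposability
  have hvY : v ∈ Y := by simpa using hYgen 0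
  have hv0 : v ≠ 0 := by
    intro h
    apply hc0
    rw [h, map_zero, map_zero]
  have hX'bot : X' = ⊥ := by
    rcases hind.2 Y X' hYstab hX'stab hcompl with h | h
    · exfalso
      rw [h, Submodule.mem_bot] at hvY
      exact hv0 hvY
    · exact h
  -- the fixed space is a line
  have hker_ne : LinearMap.ker ν ≠ ⊥ := by
    intro h
    have h1 : (ν ^ (ℓ - 1)) v ∈ LinearMap.ker ν := by
      rw [LinearMap.mem_ker, ← Module.End.mul_apply, ← pow_succ']
      have : ℓ - 1 + 1 = ℓ := by omega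
      rw [this, hℓ0, LinearMap.zero_apply]
    rw [h, Submodule.mem_bot] at h1
    apply hc0
    rw [h1, map_zero]
  have hle : Module.finrank F ↥(LinearMap.ker ν) ≤ 1 := by
    have hinj' : Function.Injective (φ ∘ₗ (LinearMap.ker ν).subtype) := by
      rw [← LinearMap.ker_eq_bot, LinearMap.ker_eq_bot']
      intro w hw
      have hw1 : φ (w : V) = 0 := by simpa using hw
      have hw2 : ν (w : V) = 0 := LinearMap.mem_ker.mp w.2
      have h1 : (w : V) ∈ X' := by
        rw [hX'mem]
        intro k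
        rcases Nat.eq_zero_or_pos k with rfl | hk
        · simpa using hw1
        · obtain ⟨d, rfl⟩ : ∃ d, k = d + 1 := ⟨k - 1, by omega⟩
          rw [pow_succ, Module.End.mul_apply, hw2, map_zero, map_zero]
      rw [hX'bot, Submodule.mem_bot] at h1
      exact Subtype.ext h1
    have := LinearMap.finrank_le_finrank_of_injective hinj'
    rwa [Module.finrank_self] at this
  have hge : 1 ≤ Module.finrank F ↥(LinearMap.ker ν) := by
    have : Nontrivial ↥(LinearMap.ker ν) := Submodule.nontrivial_iff_ne_bot.mpr hker_ne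
    exact Module.finrank_pos
  omega

end Cfsg.Agent.Lib.Helper46.S4504
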